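import Mathlib
import Cfsg.Agent.Lib.Comput.Check3
import Cfsg.Agent.Lib.J2.VA8.Data

/-! generated by tools/cgt -/

set_option autoImplicit false
set_option maxRecDepth 100000
set_option Elab.async false

namespace CfsgLib.J2.VA8

open CfsgLib.Comput

def R5_0 : RepC := ⟨21, 1, [],
  []⟩
def R5_1 : RepC := ⟨22, 1, [],
  []⟩
def S5_0 : GenC := ⟨22, [],
  [(0, 0, 0, 2, 0), (0, 1, 0, 0, 0), (0, 2, 0, 1, 0)], 0⟩
def L5 : Level := ⟨0x0, 0x300000, [], 1, 16, 0, 3, [R5_0, R5_1], [S5_0]⟩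
def X5 : Ext := [(20, 22, 0)]

def R4_0 : RepC := ⟨0x1513, 3, [],
  []⟩
def S4_0 : GenC := ⟨19, [],
  [(0, 0, 22, 1, 0), (21, 1, 0, 0, 21), (22, 1, 21, 1, 22), (0, 1, 0, 1, 21)], 0⟩
def L4 : Level := ⟨0x300000, 0x3e0000, [22], 3, 8, 0, 4, [R4_0], [S4_0]⟩
def X4 : Ext := [(17, 19, 0), (19, 0, 0x1316)]

def R3_0 : RepC := ⟨15, 4, [(21, 0x1315)],
  [(32, 2, [1])]⟩
def S3_0 : GenC := ⟨15, [(0x1315, 21)],
  [(0, 0, 0, 1, 0), (18, 1, 0, 0, 19), (0, 1, 19, 1, 0x1316)], 2⟩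
def L3 : Level := ⟨0x3e0000, 0x3fe000, [19, 22], 12, 4, 0, 5, [R3_0], [S3_0]⟩
def X3 : Ext := [(13, 15, 0), (15, 0, 0xf1316), (16, 16, 0)]

def R2_0 : RepC := ⟨0xd0b, 1, [(0xe13, 0xe13), (0x1315, 0xe15), (19, 0x130f1215)],
  [(36, 3, [1, 2, 3]), (12, 2, [1, 2])]⟩
def R2_1 : RepC := ⟨10, 5, [(0x130f151315, 0xf1215), (0xe1315, 0x130f1215)],
  [(48, 3, [1, 2]), (4, 1, [1])]⟩
def R2_2 : RepC := ⟨0xb0b, 5, [(0x1215, 0x130f13), (22, 0xf1316)],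
  [(40, 3, [1, 2]), (32, 1, [1])]⟩
def S2_0 : GenC := ⟨11, [(22, 0xe15), (0xe13, 0xe1513)],
  [(0, 0, 16, 2, 0xe1216), (0, 2, 0, 0, 0), (16, 2, 0, 3, 0x1113), (0, 3, 19, 2, 15), (15, 3, 0, 1, 0), (0, 1, 17, 3, 18)], 2⟩
def L2 : Level := ⟨0x3fe000, 0x3ffe00, [15, 19, 22], 60, 2, 0, 12, [R2_0, R2_1, R2_2], [S2_0]⟩
def X2 : Ext := [(9, 11, 0), (11, 0, 0xa100b1216), (12, 12, 0)]

def R1_0 : RepC := ⟨8, 12, [(0x1513, 0xf1316), (0x130f16, 0x11151315), (15, 0xe12)],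
  [(59, 3, [1, 2, 3]), (20, 2, [1, 2])]⟩
def R1_1 : RepC := ⟨0x906, 15, [(0x111216, 0xe13), (0x160b1316, 0xa0e1215), (0x160b0e1513, 0xa151315), (0x160c1115, 0xd0b0e1316)],
  [(42, 2, [1, 2, 3, 4]), (4, 1, [1, 2])]⟩
def S1_0 : GenC := ⟨7, [(0x160c, 0x160c0f1316), (12, 0xc0f1316)],
  [(0, 0, 10, 1, 0xd111215), (0x100b, 1, 0, 0, 0xd11), (10, 1, 0x100b, 1, 0xd0e), (0, 1, 18, 2, 0xa130f1513), (0, 2, 0, 2, 0xc0f1316), (10, 2, 0xb0b, 1, 0xd0b111315), (0xb0b, 1, 13, 1, 0xd0b1113)], 3⟩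
def L1 : Level := ⟨0x3ffe00, 0x3fffe0, [11, 15, 19, 22], 720, 1, 0, 28, [R1_0, R1_1], [S1_0]⟩
def X1 : Ext := [(5, 7, 0), (7, 0, 0xb070b0b12), (8, 8, 0)]

def R0_0 : RepC := ⟨1, 28, [(0x111216, 0x111216), (0x160b1316, 0x160b1316), (0x160b151315, 0x160b151315), (0xb11, 0xb11)],
  [(43, 4, [1, 2, 3, 4]), (61, 3, [1, 2, 3]), (9, 1, [1, 2])]⟩
def R0_1 : RepC := ⟨0x1090701, 35, [(0x9070b0b0e16, 0x9070d0b11151315), (0x1215, 0x1215), (0x9071215, 0x9071215), (0xb0907160b0e1513, 0xb09070d130f16), (0x8160b0f15, 0xa13070c1215)],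
  [(41, 3, [1, 2, 3, 4, 5]), (4, 2, [1, 2, 3, 4]), (20, 1, [1, 2])]⟩
def S0_0 : GenC := ⟨1, [(15, 15), (0x100b0f16, 0x100b0f16)],
  [(0, 0, 0, 1, 0), (0, 1, 0, 0, 0), (9, 1, 8, 1, 0x8111215), (0x907, 1, 0, 2, 0), (0, 2, 0x907, 1, 0), (6, 2, 0x90711, 2, 0xa13070b0e1513)], 4⟩
def L0 : Level := ⟨0x3fffe0, 0x3fffff, [7, 11, 15, 19, 22], 20160, 0, 0, 64, [R0_0, R0_1], [S0_0]⟩
def X0 : Ext := [(1, 0, 0x90f13), (2, 2, 0), (3, 0, 0x8160b111215), (4, 4, 0)]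

def top : List ℕ := [1, 2, 4]
def gs : List ℕ := [1, 7, 11, 15, 19, 22]
def XD : Ext := [(2, 2, 0), (4, 4, 0), (5, 0, 0x1040402040105050501), (6, 6, 0), (7, 0, 0x1040201050201040201), (8, 8, 0), (9, 0, 0x7080807080807090906), (10, 10, 0), (11, 0, 0x80709), (12, 12, 0), (13, 0, 0xb0d0d0b), (14, 14, 0), (15, 0, 0xd0b0c0a), (16, 16, 0), (17, 0, 0x100e0e), (18, 18, 0), (19, 0, 0x110f), (20, 0, 0x1314131412), (21, 21, 0)]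

/-- all the equations of the certificate -/
structure Eqs {G : Type*} [Group G] (g : ℕ → G) : Prop where
  l5 : AllHold g L5.eqns
  x5 : AllHold g X5.eqns
  l4 : AllHold g L4.eqns
  x4 : AllHold g X4.eqns
  l3 : AllHold g L3.eqns
  x3 : AllHold g X3.eqns
  l2 : AllHold g L2.eqns
  x2 : AllHold g X2.eqns
  l1 : AllHold g L1.eqns
  x1 : AllHold g X1.eqns
  l0 : AllHold g L0.eqns
  x0 : AllHold g X0.eqns
  xd : AllHold g XD.eqns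

end CfsgLib.J2.VA8
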